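import Groth.Agent.Lib.ExtZero.Presheaf
import Groth.Agent.Lib.SiteMod.Basic
import Mathlib.Algebra.Category.ModuleCat.Sheaf.PullbackContinuous
import Mathlib.CategoryTheory.Adjunction.Restrict
import Mathlib.CategoryTheory.Sites.Over
import Mathlib.Algebra.Homology.ShortComplex.ExactFunctor

/-!
# Extension by zero of sheaves of modules on a small site

For a sheaf of rings `A` and an object `U`, the left adjoint `EZ A U` of restriction to `C/U`
is exact and faithful.
-/

universe u

open CategoryTheory Limits Opposite

namespace Groth.Agent.Lib.ExtZero.Sheaf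

open Groth.Agent.Lib.ExtZero.Presheaf

variable {C : Type u} [SmallCategory C] {J : GrothendieckTopology C} (A : Sheaf J RingCat.{u}) (U : C)

/-- Forgetting to presheaves of modules. -/
noncomputable abbrev G : SheafOfModules.{u} A ⥤ PresheafOfModules.{u} A.obj :=
  SheafOfModules.forget A

/-- Forgetting to presheaves of modules on `C/U`. -/
noncomputable abbrev GU : SheafOfModules.{u} (A.over U) ⥤ PMU A.obj U :=
  SheafOfModules.forget (A.over U)

/-- Sheafification. -/
noncomputable abbrev L : PresheafOfModules.{u} A.obj ⥤ SheafOfModules.{u} A :=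
  (PresheafOfModules.sheafification.{u} (𝟙 A.obj) :)

/-- Sheafification on `C/U`. -/
noncomputable abbrev LU : PMU A.obj U ⥤ SheafOfModules.{u} (A.over U) :=
  (PresheafOfModules.sheafification.{u} (𝟙 (A.over U).obj) :)

/-- The sheafification adjunction. -/
noncomputable def adjL : L A ⊣ G A :=
  ((PresheafOfModules.sheafificationAdjunction (𝟙 A.obj) :)).ofNatIsoRight
    (eqToIso (rfl : (SheafOfModules.forget A ⋙
      PresheafOfModules.restrictScalars (𝟙 A.obj)) = SheafOfModules.forget A))

/-- The sheafification adjunction on `C/U`. -/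
noncomputable def adjLU : LU A U ⊣ GU A U :=
  ((PresheafOfModules.sheafificationAdjunction (𝟙 (A.over U).obj) :)).ofNatIsoRight
    (eqToIso (rfl : (SheafOfModules.forget (A.over U) ⋙
      PresheafOfModules.restrictScalars (𝟙 (A.over U).obj)) = SheafOfModules.forget (A.over U)))

/-- Extension by zero: the sheafification of the presheaf extension by zero. -/
noncomputable def EZ : SheafOfModules.{u} (A.over U) ⥤ SheafOfModules.{u} A :=
  GU A U ⋙ E A.obj U ⋙ L A

/-- `E ⋙ L` is left adjoint to the restriction from sheaves to presheaves on `C/U`. -/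
noncomputable def adjEL :
    E A.obj U ⋙ L A ⊣ SheafOfModules.overFunctor.{u} A U ⋙ GU A U :=
  ((Presheaf.adj A.obj U).comp (adjL A)).ofNatIsoRight
    (NatIso.ofComponents (fun _ => Iso.refl _))

/-- `EZ` is left adjoint to restriction. -/
noncomputable def adjEZ : EZ A U ⊣ SheafOfModules.overFunctor.{u} A U :=
  (adjEL A U).restrictFullyFaithful (SheafOfModules.fullyFaithfulForget (A.over U))
    (Functor.FullyFaithful.id _)
    ((GU A U ⋙ E A.obj U ⋙ L A).rightUnitor.symm)
    ((SheafOfModules.overFunctor.{u} A U ⋙ GU A U).leftUnitor)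

/-- Extension by zero of a sheafification. -/
noncomputable def sheafifyCompEZ : LU A U ⋙ EZ A U ≅ E A.obj U ⋙ L A :=
  ((adjLU A U).comp (adjEZ A U)).leftAdjointUniq (adjEL A U)

instance isRightAdjoint_overFunctor : (SheafOfModules.overFunctor.{u} A U).IsRightAdjoint :=
  (adjEZ A U).isRightAdjoint

instance isLeftAdjoint_EZ : (EZ A U).IsLeftAdjoint := (adjEZ A U).isLeftAdjoint

instance isLeftAdjoint_E : (E A.obj U).IsLeftAdjoint :=
  (Presheaf.adj A.obj U).isLeftAdjoint

instance preservesMonomorphisms_E : (E A.obj U).PreservesMonomorphisms :=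
  ⟨fun f _ => mono_map f⟩

instance preservesFiniteLimits_E : PreservesFiniteLimits (E A.obj U) := by
  haveI : PreservesFiniteColimits (E A.obj U) :=
    ⟨fun K _ _ => (Presheaf.adj A.obj U).leftAdjoint_preservesColimits.preservesColimitsOfShape⟩
  haveI : PreservesBinaryBiproducts (E A.obj U) :=
    preservesBinaryBiproducts_of_preservesBinaryCoproducts _
  haveI : (E A.obj U).Additive := Functor.additive_of_preservesBinaryBiproducts _
  haveI := Functor.preservesHomology_of_preservesMonos_and_cokernels (E A.obj U)
  exact Functor.preservesFiniteLimits_of_preservesHomology _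

instance preservesFiniteLimits_EZ : PreservesFiniteLimits (EZ A U) := by
  haveI : PreservesFiniteLimits (GU A U) :=
    inferInstanceAs (PreservesFiniteLimits (SheafOfModules.forget.{u} (A.over U)))
  haveI : PreservesFiniteLimits (L A) :=
    inferInstanceAs (PreservesFiniteLimits (PresheafOfModules.sheafification.{u} (𝟙 A.obj)))
  unfold EZ
  infer_instance

instance faithful_EZ : (EZ A U).Faithful where
  map_injective {P Q f g} h := by
    apply SheafOfModules.hom_ext
    refine PresheafOfModules.hom_ext fun X => ?_
    ext x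
    let V : Cᵒᵖ := op X.unop.left
    let φ : V.unop ⟶ U := X.unop.hom
    let a : (EObj ((GU A U).obj Q)).obj V := inc ((GU A U).obj Q) φ (f.val.app X x)
    let b : (EObj ((GU A U).obj Q)).obj V := inc ((GU A U).obj Q) φ (g.val.app X x)
    -- the two images agree after sheafification
    have hab : ((adjL A).unit.app ((E A.obj U).obj ((GU A U).obj Q))).app V a =
        ((adjL A).unit.app ((E A.obj U).obj ((GU A U).obj Q))).app V b := by
      have hh : (E A.obj U).map ((GU A U).map f) ≫ (adjL A).unit.app _ =
          (E A.obj U).map ((GU A U).map g) ≫ (adjL A).unit.app _ := by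
        exact ((adjL A).unit.naturality ((E A.obj U).map ((GU A U).map f))).trans
          ((congrArg (fun k => (adjL A).unit.app _ ≫ (G A).map k) h).trans
            ((adjL A).unit.naturality ((E A.obj U).map ((GU A U).map g))).symm)
      have e := congrArg (fun k => k.app V (inc ((GU A U).obj P) φ x)) hh
      simp only [PresheafOfModules.comp_app, ConcreteCategory.comp_apply] at e
      exact (congrArg _ (secHom_inc ((GU A U).map f) φ x).symm).trans
        (e.trans (congrArg _ (secHom_inc ((GU A U).map g) φ x)))
    haveI : PresheafOfModules.IsLocallyInjective J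
        ((adjL A).unit.app ((E A.obj U).obj ((GU A U).obj Q))) :=
      inferInstanceAs (Presheaf.IsLocallyInjective J
        (CategoryTheory.toSheafify J ((E A.obj U).obj ((GU A U).obj Q)).presheaf))
    have hS := Presheaf.equalizerSieve_mem J
      ((PresheafOfModules.toPresheaf _).map
        ((adjL A).unit.app ((E A.obj U).obj ((GU A U).obj Q)))) (X := V) a b hab
    have hsep := CategoryTheory.Sheaf.isSeparated (⟨_, Q.isSheaf⟩ : CategoryTheory.Sheaf (J.over U) AddCommGrpCat.{u})
    refine hsep X.unop ((Sieve.overEquiv X.unop).symm (Presheaf.equalizerSieve (F :=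
      ((E A.obj U).obj ((GU A U).obj Q)).presheaf) (X := V) a b)) ?_ _ _ ?_
    · rw [GrothendieckTopology.mem_over_iff]
      exact (congrArg (fun s => s ∈ J X.unop.left) (OrderIso.apply_symm_apply (Sieve.overEquiv X.unop) _)).mpr hS
    intro Y k hk
    rw [Sieve.overEquiv_symm_iff] at hk
    have hk' : secMap ((GU A U).obj Q) k.left.op (inc _ φ (f.val.app X x)) =
        secMap ((GU A U).obj Q) k.left.op (inc _ φ (g.val.app X x)) := hk
    rw [secMap_inc _ k.left.op φ Y.hom (Over.w k), secMap_inc _ k.left.op φ Y.hom (Over.w k)] at hk'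
    let _ := Classical.decEq (Y.left ⟶ U)
    exact DirectSum.of_injective (β := fun ψ : Y.left ⟶ U => Fib ((GU A U).obj Q) (V := op Y.left) ψ)
      Y.hom hk'

/-- Any left adjoint of restriction is exact and faithful. -/
theorem of_adjunction {L' : SheafOfModules.{u} (A.over U) ⥤ SheafOfModules.{u} A}
    (adj : L' ⊣ SheafOfModules.overFunctor.{u} A U) :
    PreservesFiniteLimits L' ∧ PreservesFiniteColimits L' ∧ L'.Faithful := by
  let e : EZ A U ≅ L' := (adjEZ A U).leftAdjointUniq adj
  exact ⟨preservesFiniteLimits_of_natIso e,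
    ⟨fun K _ _ => adj.leftAdjoint_preservesColimits.preservesColimitsOfShape⟩,
    Functor.Faithful.of_iso e⟩

/-- Restriction preserves all small colimits. -/
instance preservesColimits_overFunctor :
    PreservesColimitsOfSize.{u, u} (SheafOfModules.overFunctor.{u} A U) := by
  haveI : ((Over.forget U).sheafPushforwardContinuous AddCommGrpCat.{u} (J.over U) J).IsLeftAdjoint :=
    ((Over.forget U).sheafAdjunctionCocontinuous AddCommGrpCat.{u} (J.over U) J).isLeftAdjoint
  haveI : PreservesColimitsOfSize.{u, u}
      (SheafOfModules.overFunctor.{u} A U ⋙ SheafOfModules.toSheaf.{u} (A.over U)) :=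
    inferInstanceAs (PreservesColimitsOfSize.{u, u} (SheafOfModules.toSheaf.{u} A ⋙
      (Over.forget U).sheafPushforwardContinuous AddCommGrpCat.{u} (J.over U) J))
  exact SiteMod.Basic.preservesColimits_of_comp_toSheaf _

end Groth.Agent.Lib.ExtZero.Sheaf
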