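import Groth.Agent.Lib.ExtZero.ModSite
import Mathlib.CategoryTheory.Adjunction.Additive

/-!
# Restriction commutes with tensor and internal hom; maps out of `freeOn`
-/

universe u

open CategoryTheory Limits Opposite MonoidalCategory

namespace Groth.Agent.Lib.ExtZero.Restr

open Groth.Agent.Lib.ExtZero.Presheaf Groth.Agent.Lib.ModTensor.Monoidal

variable {C : Type u} [SmallCategory C] {J : GrothendieckTopology C}
  {O : Sheaf J CommRingCat.{u}} (U : C)

/-- Restricting a locally bijective morphism gives a locally bijective one. -/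
theorem isIso_map_restr {P Q : PM O} (f : P ⟶ Q) [IsIso ((L.{u, u, u} O).map f)] :
    IsIso ((L.{u, u, u} (O.over U)).map ((restrc O.obj U).map f)) := by
  obtain ⟨hi, hs⟩ := (isIso_map_iff f).1 inferInstance
  refine (isIso_map_iff.{u, u, u} (O := O.over U) _).2 ⟨⟨fun {X} x y h => ?_⟩, ⟨fun {X} s => ?_⟩⟩
  · have := Presheaf.equalizerSieve_mem J ((PresheafOfModules.toPresheaf _).map f)
      (X := op X.unop.left) x y h
    rw [GrothendieckTopology.mem_over_iff]
    refine J.superset_covering (fun Y g hg => ?_) this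
    rw [Sieve.overEquiv_iff]
    exact hg
  · have := Presheaf.imageSieve_mem J ((PresheafOfModules.toPresheaf _).map f)
      (U := op X.left) s
    rw [GrothendieckTopology.mem_over_iff]
    refine J.superset_covering (fun Y g hg => ?_) this
    rw [Sieve.overEquiv_iff]
    exact hg

variable (O) in
/-- Restriction commutes with sheafification. -/
noncomputable def sheafifyRestrIso (P : PM O) :
    (L.{u, u, u} (O.over U)).obj ((restrc O.obj U).obj P) ≅
      (_root_.ModSite.restr O U).obj ((L.{u, u, u} O).obj P) :=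
  haveI := isIso_map_restr U ((adj O).unit.app P)
  asIso ((L.{u, u, u} (O.over U)).map ((restrc O.obj U).map ((adj O).unit.app P))) ≪≫
    (counitIso.{u, u, u} (O.over U)).app
      ((_root_.ModSite.restr O U).obj ((L.{u, u, u} O).obj P))

/-- Restriction commutes with tensor products. -/
noncomputable def restrTensorIso (M N : _root_.ModSite.Mod O) :
    (_root_.ModSite.restr O U).obj (((_root_.ModSite.tensorBi O).obj M).obj N) ≅
      ((_root_.ModSite.tensorBi (O.over U)).obj ((_root_.ModSite.restr O U).obj M)).obj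
        ((_root_.ModSite.restr O U).obj N) :=
  (sheafifyRestrIso O U _).symm ≪≫ (L.{u, u, u} (O.over U)).mapIso
    (Functor.Monoidal.μIso (restrc O.obj U)
      ((G.{u, u, u} O).obj M) ((G.{u, u, u} O).obj N)).symm

instance additive_restr : (_root_.ModSite.restr O U).Additive where

/-- Internal hom commutes with restriction. -/
noncomputable def restrSheafHomIso (M : _root_.ModSite.Mod O) [_root_.ModSite.HasSheafHom M]
    [_root_.ModSite.HasSheafHom ((_root_.ModSite.restr O U).obj M)] :
    _root_.ModSite.restr O U ⋙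
        _root_.ModSite.sheafHom ((_root_.ModSite.restr O U).obj M) ≅
      _root_.ModSite.sheafHom M ⋙ _root_.ModSite.restr O U :=
  ((_root_.ModSite.sheafHomAdj ((_root_.ModSite.restr O U).obj M)).comp
      (ModSite.adjEZ O U)).rightAdjointUniq
    (((ModSite.adjEZ O U).comp (_root_.ModSite.sheafHomAdj M)).ofNatIsoLeft
      (ModSite.projRight O U M).symm)

lemma res_terminal (H : _root_.ModSite.Mod (O.over U))
    (s : H.val.obj (op (Over.mk (𝟙 U)))) {X Y : (Over U)ᵒᵖ} (g : X ⟶ Y) :
    H.val.map g (H.val.map (Over.homMk (U := X.unop) (V := Over.mk (𝟙 U)) X.unop.hom).op s) =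
      H.val.map (Over.homMk (U := Y.unop) (V := Over.mk (𝟙 U)) Y.unop.hom).op s := by
  have : (Over.homMk (U := X.unop) (V := Over.mk (𝟙 U)) X.unop.hom).op ≫ g =
      (Over.homMk (U := Y.unop) (V := Over.mk (𝟙 U)) Y.unop.hom).op := by
    apply Quiver.Hom.unop_inj
    ext
    exact Over.w g.unop
  exact ((ConcreteCategory.congr_hom (H.val.presheaf.map_comp _ g) s).symm).trans
    (congrArg (fun m => (H.val.presheaf.map m).hom s) this)

/-- A map out of the structure sheaf of `C/U` is a section over `U`. -/
noncomputable def unitOverEquiv (H : _root_.ModSite.Mod (O.over U)) :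
    (SheafOfModules.unit (_root_.ModSite.ringSh (O.over U)) ⟶ H) ≃+
      H.val.obj (op (Over.mk (𝟙 U))) where
  toFun f := f.val.app (op (Over.mk (𝟙 U))) (1 : O.obj.obj (op U))
  invFun s := H.unitHomEquiv.symm (PresheafOfModules.sectionsMk
    (fun X => H.val.map (Over.homMk (U := X.unop) (V := Over.mk (𝟙 U)) X.unop.hom).op s)
    (fun {X Y} g => by
      exact res_terminal U H s g))
  left_inv f := by
    apply H.unitHomEquiv.injective
    rw [Equiv.apply_symm_apply]
    refine Subtype.ext (funext fun X => ?_)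
    exact ((H.unitHomEquiv f).2
      (Over.homMk (U := X.unop) (V := Over.mk (𝟙 U)) X.unop.hom).op)
  right_inv s := by
    let e := H.unitHomEquiv.apply_symm_apply (PresheafOfModules.sectionsMk
      (fun X => H.val.map (Over.homMk (U := X.unop) (V := Over.mk (𝟙 U)) X.unop.hom).op s)
      (fun {X Y} g => by
        exact res_terminal U H s g))
    refine (congrArg (fun t => t.val (op (Over.mk (𝟙 U)))) e).trans ?_
    have : (Over.homMk (U := Over.mk (𝟙 U)) (V := Over.mk (𝟙 U)) (𝟙 U)).op = 𝟙 _ := rfl
    exact (congrArg (fun m => (H.val.presheaf.map m).hom s) this).trans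
      (ConcreteCategory.congr_hom (H.val.presheaf.map_id _) s)
  map_add' f g := rfl

instance additive_extZero : (_root_.ModSite.extZero O U).Additive :=
  (_root_.ModSite.extZeroAdj O U).left_adjoint_additive

/-- A map out of `freeOn O U` is a section over `U`. -/
noncomputable def freeOnEquiv (F : _root_.ModSite.Mod O) :
    (_root_.ModSite.freeOn O U ⟶ F) ≃+ _root_.ModSite.sect F U :=
  ((_root_.ModSite.extZeroAdj O U).homAddEquiv (SheafOfModules.unit _) F).trans
    (unitOverEquiv U ((_root_.ModSite.restr O U).obj F))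

lemma freeOnEquiv_comp {F H : _root_.ModSite.Mod O} (f : _root_.ModSite.freeOn O U ⟶ F)
    (p : F ⟶ H) : freeOnEquiv U H (f ≫ p) = p.val.app (op U) (freeOnEquiv U F f) := by
  change unitOverEquiv U _ ((_root_.ModSite.extZeroAdj O U).homEquiv _ _ (f ≫ p)) = _
  rw [Adjunction.homEquiv_naturality_right]
  rfl

/-- Sections of the internal hom. -/
noncomputable def sectSheafHomEquiv (M N : _root_.ModSite.Mod O) [_root_.ModSite.HasSheafHom M] :
    _root_.ModSite.sect ((_root_.ModSite.sheafHom M).obj N) U ≃+
      ((_root_.ModSite.restr O U).obj M ⟶ (_root_.ModSite.restr O U).obj N) :=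
  haveI : ((_root_.ModSite.tensorBi O).flip.obj M).Additive :=
    haveI := preservesBinaryBiproducts_of_preservesBinaryCoproducts
      ((_root_.ModSite.tensorBi O).flip.obj M)
    Functor.additive_of_preservesBinaryBiproducts _
  let e := (ModSite.freeOnTensorIso O U).app M
  (freeOnEquiv U _).symm.trans <|
    ((_root_.ModSite.sheafHomAdj M).homAddEquiv _ N).symm.trans <|
      (({ e.homFromEquiv with map_add' := fun _ _ => Preadditive.comp_add _ _ _ _ _ _ } :
          ((((_root_.ModSite.tensorBi O).flip.obj M).obj (_root_.ModSite.freeOn O U)) ⟶ N) ≃+ _)).trans <|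
        (_root_.ModSite.extZeroAdj O U).homAddEquiv _ N

theorem isSeparating_freeOn (S : Set C)
    (hS : ∀ X : C, ∃ (ι : Type u) (Y : ι → C) (f : ∀ i, Y i ⟶ X),
      Sieve.ofArrows Y f ∈ J X ∧ ∀ i, Y i ∈ S) :
    (ObjectProperty.ofObj fun X : S => _root_.ModSite.freeOn O (X : C)).IsSeparating := by
  intro F H f g hfg
  apply SheafOfModules.hom_ext
  refine PresheafOfModules.hom_ext fun X => ?_
  ext x
  obtain ⟨ι, Y, a, ha, hY⟩ := hS X.unop
  refine CategoryTheory.Sheaf.isSeparated (⟨_, H.isSheaf⟩ : Sheaf J AddCommGrpCat.{u})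
    X.unop _ ha _ _ ?_
  intro W m hm
  obtain ⟨i, k, rfl⟩ := (Sieve.mem_ofArrows_iff _ _ _).1 hm
  have key : f.val.app (op (Y i)) (F.val.map (a i).op x) = g.val.app (op (Y i)) (F.val.map (a i).op x) := by
    obtain ⟨t, ht⟩ := (freeOnEquiv (Y i) F).surjective (F.val.map (a i).op x)
    rw [← ht, ← freeOnEquiv_comp, ← freeOnEquiv_comp, hfg _ ⟨⟨Y i, hY i⟩⟩ t]
  rw [PresheafOfModules.naturality_apply, PresheafOfModules.naturality_apply] at key
  change H.val.presheaf.map (k ≫ a i).op (f.val.app X x) =
    H.val.presheaf.map (k ≫ a i).op (g.val.app X x)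
  rw [op_comp, Functor.map_comp]
  exact congrArg (H.val.presheaf.map k.op) key

end Groth.Agent.Lib.ExtZero.Restr
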