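import Groth.Agent.Lib.ExtZero.Sheaf
import Groth.Agent.Lib.ModTensor.Flat

/-!
# Extension by zero and tensor products on a ringed site
-/

universe u

open CategoryTheory Limits Opposite MonoidalCategory

namespace Groth.Agent.Lib.ExtZero.ModSite

open Groth.Agent.Lib.ExtZero.Presheaf

variable {C : Type u} [SmallCategory C] {J : GrothendieckTopology C}
  (O : Sheaf J CommRingCat.{u}) (U : C)

/-- Extension by zero as the sheafified presheaf extension by zero. -/
noncomputable def EZ : _root_.ModSite.Mod (O.over U) ⥤ _root_.ModSite.Mod O :=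
  Sheaf.EZ (_root_.ModSite.ringSh O) U

/-- `EZ` is left adjoint to restriction. -/
noncomputable def adjEZ : EZ O U ⊣ _root_.ModSite.restr O U :=
  Sheaf.adjEZ (_root_.ModSite.ringSh O) U

/-- Comparison with the chosen extension by zero. -/
noncomputable def extZeroIso : EZ O U ≅ _root_.ModSite.extZero O U :=
  (adjEZ O U).leftAdjointUniq (_root_.ModSite.extZeroAdj O U)

instance preservesFiniteLimits_EZ : PreservesFiniteLimits (EZ O U) :=
  Sheaf.preservesFiniteLimits_EZ (_root_.ModSite.ringSh O) U

instance faithful_EZ : (EZ O U).Faithful :=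
  Sheaf.faithful_EZ (_root_.ModSite.ringSh O) U

instance isLeftAdjoint_EZ : (EZ O U).IsLeftAdjoint := (adjEZ O U).isLeftAdjoint

theorem preservesFiniteLimits_extZero : PreservesFiniteLimits (_root_.ModSite.extZero O U) :=
  preservesFiniteLimits_of_natIso (extZeroIso O U)

theorem faithful_extZero : (_root_.ModSite.extZero O U).Faithful :=
  Functor.Faithful.of_iso (extZeroIso O U)

instance preservesColimits_restr :
    PreservesColimitsOfSize.{u, u} (_root_.ModSite.restr O U) :=
  Sheaf.preservesColimits_overFunctor (_root_.ModSite.ringSh O) U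

open Groth.Agent.Lib.ModTensor.Monoidal

/-- Extension by zero of a sheafification. -/
noncomputable def sheafifyCompEZ :
    L.{u, u, u} (O.over U) ⋙ EZ O U ≅ Ec O.obj U ⋙ L.{u, u, u} O :=
  Sheaf.sheafifyCompEZ (_root_.ModSite.ringSh O) U

/-- Projection formula, naturally in the module on `C/U`. -/
noncomputable def projRight (N : _root_.ModSite.Mod O) :
    (_root_.ModSite.tensorBi (O.over U)).flip.obj ((_root_.ModSite.restr O U).obj N) ⋙ EZ O U ≅
      EZ O U ⋙ (_root_.ModSite.tensorBi O).flip.obj N :=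
  Functor.isoWhiskerRight (ModTensor.ModSite.tensorBiFlipIso _) (EZ O U) ≪≫
    Functor.isoWhiskerLeft (G.{u, u, u} (O.over U) ⋙
        MonoidalCategory.tensorRight ((restrc O.obj U).obj ((G.{u, u, u} O).obj N)))
      (sheafifyCompEZ O U) ≪≫
    Functor.isoWhiskerLeft (G.{u, u, u} (O.over U)) (Functor.isoWhiskerRight
      (projNatIsoRight (R := O.obj) (U := U) ((G.{u, u, u} O).obj N)) (L.{u, u, u} O)) ≪≫
    Functor.isoWhiskerLeft (G.{u, u, u} (O.over U) ⋙ Ec O.obj U)
      (tensorRightCompIso ((G.{u, u, u} O).obj N)) ≪≫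
    Functor.isoWhiskerLeft (EZ O U) (ModTensor.ModSite.tensorBiFlipIso N).symm

/-- Sheafifying the left factor, naturally in the right factor. -/
noncomputable def tensorLeftCompIso (P : PM O) :
    G.{u, u, u} O ⋙ MonoidalCategory.tensorLeft P ⋙ L.{u, u, u} O ≅ tenLeft.{u, u, u} (O := O) ((L.{u, u, u} O).obj P) :=
  NatIso.ofComponents
    (fun N =>
      haveI := isIso_map_whiskerRight ((adj O).unit.app P) ((G.{u, u, u} O).obj N)
      asIso ((L O).map ((adj O).unit.app P ▷ (G.{u, u, u} O).obj N)))
    (fun {N N'} f => by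
      dsimp
      rw [← Functor.map_comp, ← Functor.map_comp, whisker_exchange])

/-- Projection formula, naturally in the module on `C`. -/
noncomputable def projLeft (P : _root_.ModSite.Mod (O.over U)) :
    (_root_.ModSite.tensorBi O).obj ((EZ O U).obj P) ≅
      _root_.ModSite.restr O U ⋙ (_root_.ModSite.tensorBi (O.over U)).obj P ⋙ EZ O U :=
  (Functor.isoWhiskerLeft (_root_.ModSite.restr O U)
      (Functor.isoWhiskerRight (ModTensor.ModSite.tensorBiObjIso P) (EZ O U)) ≪≫
    Functor.isoWhiskerLeft (_root_.ModSite.restr O U ⋙ G.{u, u, u} (O.over U) ⋙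
        MonoidalCategory.tensorLeft ((G.{u, u, u} (O.over U)).obj P))
      (sheafifyCompEZ O U) ≪≫
    Functor.isoWhiskerLeft (G.{u, u, u} O) (Functor.isoWhiskerRight
      (projNatIsoLeft (R := O.obj) (U := U) ((G.{u, u, u} (O.over U)).obj P)) (L.{u, u, u} O)) ≪≫
    tensorLeftCompIso O _ ≪≫
    (ModTensor.ModSite.tensorBiObjIso ((EZ O U).obj P)).symm).symm

/-- `j_! O_U ⊗ - ≅ j_! (- |_U)`. -/
noncomputable def freeOnTensorIso :
    (_root_.ModSite.tensorBi O).obj (_root_.ModSite.freeOn O U) ≅
      _root_.ModSite.restr O U ⋙ _root_.ModSite.extZero O U :=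
  (_root_.ModSite.tensorBi O).mapIso ((extZeroIso O U).app _).symm ≪≫ projLeft O U _ ≪≫
    Functor.isoWhiskerLeft (_root_.ModSite.restr O U)
      (Functor.isoWhiskerRight ((ModTensor.ModSite.tensorBiObjIso _) ≪≫
        tenLeftUnitIso.{u, u, u} (O := O.over U)) (EZ O U)) ≪≫
    Functor.isoWhiskerLeft (_root_.ModSite.restr O U)
      ((EZ O U).leftUnitor ≪≫ extZeroIso O U)

theorem isFlat_freeOn : _root_.ModSite.IsFlat (_root_.ModSite.freeOn O U) := by
  rw [ModTensor.Flat.isFlat_iff]
  haveI := preservesFiniteLimits_extZero O U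
  exact preservesFiniteLimits_of_natIso
    ((ModTensor.ModSite.flipObjIso _) ≪≫ freeOnTensorIso O U).symm

theorem isFlat_extZero (M : _root_.ModSite.Mod (O.over U)) (hM : _root_.ModSite.IsFlat M) :
    _root_.ModSite.IsFlat ((_root_.ModSite.extZero O U).obj M) := by
  refine ModTensor.Flat.isFlat_of_iso O ((extZeroIso O U).app M) ?_
  rw [ModTensor.Flat.isFlat_iff]
  haveI := hM.1
  haveI : PreservesFiniteLimits ((_root_.ModSite.tensorBi (O.over U)).obj M) :=
    preservesFiniteLimits_of_natIso (ModTensor.ModSite.flipObjIso M)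
  exact preservesFiniteLimits_of_natIso
    ((ModTensor.ModSite.flipObjIso _) ≪≫ projLeft O U M).symm

/-- A functor into a category from which an exact faithful functor is available is exact
as soon as the composite is. -/
theorem preservesFiniteLimits_of_comp_EZ {D : Type*} [Category D]
    (T : D ⥤ _root_.ModSite.Mod (O.over U)) [PreservesFiniteLimits (T ⋙ EZ O U)] :
    PreservesFiniteLimits T :=
  haveI : (EZ O U).ReflectsIsomorphisms := reflectsIsomorphisms_of_reflectsMonomorphisms_of_reflectsEpimorphisms _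
  haveI : ReflectsFiniteLimits (EZ O U) := ⟨fun K _ _ => reflectsLimitsOfShape_of_reflectsIsomorphisms⟩
  preservesFiniteLimits_of_reflects_of_preserves T (EZ O U)

theorem isFlat_restr (M : _root_.ModSite.Mod O) (hM : _root_.ModSite.IsFlat M) :
    _root_.ModSite.IsFlat ((_root_.ModSite.restr O U).obj M) := by
  rw [ModTensor.Flat.isFlat_iff]
  haveI := hM.1
  haveI : PreservesFiniteLimits ((_root_.ModSite.tensorBi (O.over U)).flip.obj
      ((_root_.ModSite.restr O U).obj M) ⋙ EZ O U) :=
    preservesFiniteLimits_of_natIso (projRight O U M).symm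
  exact preservesFiniteLimits_of_comp_EZ O U _

end Groth.Agent.Lib.ExtZero.ModSite
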