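import Mathlib.Algebra.Category.ModuleCat.Presheaf.PushforwardZeroMonoidal
import Mathlib.Algebra.Category.ModuleCat.Presheaf.EpiMono
import Mathlib.Algebra.Category.ModuleCat.Presheaf.Abelian
import Mathlib.CategoryTheory.Comma.Over.Basic
import Mathlib.LinearAlgebra.DirectSum.TensorProduct
import Mathlib.LinearAlgebra.TensorProduct.Finiteness
import Mathlib.Algebra.DirectSum.Module
import Mathlib.CategoryTheory.Limits.Preserves.Finite

/-!
# Extension by zero of presheaves of modules along `Over.forget U`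

`(E U).obj P` sends `V` to `⨁ φ : V ⟶ U, P (φ)`; it is left adjoint to restriction, preserves
monomorphisms and satisfies the projection formula.
-/

universe u

open CategoryTheory Opposite MonoidalCategory
open scoped DirectSum

namespace Groth.Agent.Lib.ExtZero.Presheaf

variable {C : Type u} [SmallCategory C] {R : Cᵒᵖ ⥤ RingCat.{u}} {U : C}

/-- Presheaves of modules on `C/U`. -/
abbrev PMU (R : Cᵒᵖ ⥤ RingCat.{u}) (U : C) :=
  PresheafOfModules.{u} ((Over.forget U).op ⋙ R)

/-- Restriction to `C/U`. -/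
noncomputable abbrev restrP (R : Cᵒᵖ ⥤ RingCat.{u}) (U : C) :
    PresheafOfModules.{u} R ⥤ PMU R U :=
  PresheafOfModules.pushforward₀ (Over.forget U) R

/-- The sections of `P` at `φ : V ⟶ U`. -/
abbrev Fib (P : PMU R U) {V : Cᵒᵖ} (φ : V.unop ⟶ U) : Type u := P.obj (op (Over.mk φ))

noncomputable instance fibModule (P : PMU R U) {V : Cᵒᵖ} (φ : V.unop ⟶ U) :
    Module (R.obj V) (Fib P φ) :=
  (P.obj (op (Over.mk φ))).isModule

/-- Restriction maps of `P` between fibres. -/
noncomputable def fres (P : PMU R U) {V W : Cᵒᵖ} (g : V ⟶ W) (ψ : V.unop ⟶ U) (φ : W.unop ⟶ U)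
    (h : g.unop ≫ ψ = φ) : Fib P ψ →+ Fib P φ :=
  (P.presheaf.map (Over.homMk (U := Over.mk φ) (V := Over.mk ψ) g.unop h).op).hom

lemma fres_smul (P : PMU R U) {V W : Cᵒᵖ} (g : V ⟶ W) (ψ : V.unop ⟶ U) (φ : W.unop ⟶ U)
    (h : g.unop ≫ ψ = φ) (r : R.obj V) (x : Fib P ψ) :
    fres P g ψ φ h (r • x) = (R.map g).hom r • fres P g ψ φ h x :=
  P.map_smul (Over.homMk (U := Over.mk φ) (V := Over.mk ψ) g.unop h).op r x

lemma fres_id (P : PMU R U) {V : Cᵒᵖ} (ψ : V.unop ⟶ U) (h : (𝟙 V : V ⟶ V).unop ≫ ψ = ψ)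
    (x : Fib P ψ) : fres P (𝟙 V) ψ ψ h x = x := by
  have : (Over.homMk (U := Over.mk ψ) (V := Over.mk ψ) (𝟙 V : V ⟶ V).unop h).op = 𝟙 _ := rfl
  exact (congrArg (fun m => (P.presheaf.map m).hom x) this).trans
    (ConcreteCategory.congr_hom (P.presheaf.map_id _) x)

lemma fres_fres (P : PMU R U) {V W Z : Cᵒᵖ} (g : V ⟶ W) (g' : W ⟶ Z) (ψ : V.unop ⟶ U)
    (φ : W.unop ⟶ U) (χ : Z.unop ⟶ U) (h : g.unop ≫ ψ = φ) (h' : g'.unop ≫ φ = χ)
    (h'' : (g ≫ g').unop ≫ ψ = χ) (x : Fib P ψ) :
    fres P (g ≫ g') ψ χ h'' x = fres P g' φ χ h' (fres P g ψ φ h x) := by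
  have : (Over.homMk (U := Over.mk χ) (V := Over.mk ψ) (g ≫ g').unop h'').op =
      (Over.homMk (U := Over.mk φ) (V := Over.mk ψ) g.unop h).op ≫
        (Over.homMk (U := Over.mk χ) (V := Over.mk φ) g'.unop h').op := rfl
  simp only [fres, this, Functor.map_comp]
  rfl

lemma fres_app {P Q : PMU R U} (f : P ⟶ Q) {V W : Cᵒᵖ} (g : V ⟶ W) (ψ : V.unop ⟶ U)
    (φ : W.unop ⟶ U) (h : g.unop ≫ ψ = φ) (x : Fib P ψ) :
    f.app _ (fres P g ψ φ h x) = fres Q g ψ φ h (f.app _ x) :=
  PresheafOfModules.naturality_apply f _ x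

/-- The underlying module at `V`. -/
abbrev Sec (P : PMU R U) (V : Cᵒᵖ) : Type u := ⨁ φ : V.unop ⟶ U, Fib P φ

/-- The summand inclusion. -/
noncomputable def inc (P : PMU R U) {V : Cᵒᵖ} (φ : V.unop ⟶ U) :
    Fib P φ →ₗ[R.obj V] Sec P V :=
  letI := Classical.decEq (V.unop ⟶ U)
  DirectSum.lof (R.obj V) _ _ φ

lemma sec_ext (P : PMU R U) {V : Cᵒᵖ} {A : Type*} [AddCommGroup A] {f g : Sec P V →+ A}
    (h : ∀ (φ : V.unop ⟶ U) (x : Fib P φ), f (inc P φ x) = g (inc P φ x)) : f = g :=
  letI := Classical.decEq (V.unop ⟶ U)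
  DirectSum.addHom_ext h

lemma inc_congr (P : PMU R U) {V W : Cᵒᵖ} (g : V ⟶ W) (ψ : V.unop ⟶ U) {φ φ' : W.unop ⟶ U}
    (h : g.unop ≫ ψ = φ) (h' : g.unop ≫ ψ = φ') (x : Fib P ψ) :
    inc P φ (fres P g ψ φ h x) = inc P φ' (fres P g ψ φ' h' x) := by
  obtain rfl : φ = φ' := h.symm.trans h'
  rfl

/-- The restriction map. -/
noncomputable def secMap (P : PMU R U) {V W : Cᵒᵖ} (g : V ⟶ W) : Sec P V →+ Sec P W :=
  letI := Classical.decEq (V.unop ⟶ U)
  DirectSum.toAddMonoid fun ψ => (inc P (g.unop ≫ ψ)).toAddMonoidHom.comp (fres P g ψ _ rfl)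

lemma secMap_inc (P : PMU R U) {V W : Cᵒᵖ} (g : V ⟶ W) (ψ : V.unop ⟶ U) (φ : W.unop ⟶ U)
    (h : g.unop ≫ ψ = φ) (x : Fib P ψ) :
    secMap P g (inc P ψ x) = inc P φ (fres P g ψ φ h x) := by
  subst h
  let _ := Classical.decEq (V.unop ⟶ U)
  exact DirectSum.toAddMonoid_of _ ψ x

/-- The underlying abelian presheaf. -/
noncomputable def absheaf (P : PMU R U) : Cᵒᵖ ⥤ AddCommGrpCat.{u} where
  obj V := .of (Sec P V)
  map g := AddCommGrpCat.ofHom (secMap P g)
  map_id V := by
    refine AddCommGrpCat.hom_ext (sec_ext P fun φ x => ?_)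
    exact (secMap_inc P (𝟙 V) φ φ (by simp) x).trans (congrArg _ (fres_id P φ _ x))
  map_comp {V W Z} g g' := by
    refine AddCommGrpCat.hom_ext (sec_ext P fun ψ x => ?_)
    have h1 := secMap_inc P g ψ _ rfl x
    have h2 := secMap_inc P (g ≫ g') ψ (g'.unop ≫ (g.unop ≫ ψ)) (by simp) x
    refine h2.trans ((congrArg _ (fres_fres P g g' ψ _ _ rfl rfl _ x)).trans ?_)
    exact ((congrArg (secMap P g') h1).trans (secMap_inc P g' _ _ rfl _)).symm

noncomputable instance absheafModule (P : PMU R U) (V : Cᵒᵖ) :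
    Module (R.obj V) ((absheaf P).obj V) :=
  inferInstanceAs (Module (R.obj V) (Sec P V))

lemma secMap_smul (P : PMU R U) {V W : Cᵒᵖ} (g : V ⟶ W) (r : R.obj V) (z : Sec P V) :
    secMap P g (r • z) = (R.map g).hom r • secMap P g z := by
  let _ := Classical.decEq (V.unop ⟶ U)
  induction z using DirectSum.induction_on with
  | zero => simp
  | of φ x =>
    change secMap P g (r • inc P φ x) = _ • secMap P g (inc P φ x)
    rw [← map_smul, secMap_inc P g φ _ rfl, secMap_inc P g φ _ rfl, fres_smul, map_smul]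
  | add a b ha hb => simp only [smul_add, map_add, ha, hb]

/-- Extension by zero on objects. -/
noncomputable def EObj (P : PMU R U) :
    PresheafOfModules.{u} R :=
  PresheafOfModules.ofPresheaf (absheaf P) (fun _ _ g r z => secMap_smul P g r z)

/-- Extension by zero on maps, sectionwise. -/
noncomputable def secHom {P Q : PMU R U} (f : P ⟶ Q) (V : Cᵒᵖ) : Sec P V →ₗ[R.obj V] Sec Q V :=
  DirectSum.lmap fun φ => (f.app (op (Over.mk φ))).hom

lemma secHom_inc {P Q : PMU R U} (f : P ⟶ Q) {V : Cᵒᵖ} (φ : V.unop ⟶ U) (x : Fib P φ) :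
    secHom f V (inc P φ x) = inc Q φ (f.app _ x) := by
  let _ := Classical.decEq (V.unop ⟶ U)
  exact DirectSum.lmap_lof _ _ x

/-- Extension by zero on maps. -/
noncomputable def EMap {P Q : PMU R U} (f : P ⟶ Q) : EObj P ⟶ EObj Q where
  app V := ModuleCat.ofHom (secHom f V)
  naturality {V W} g := by
    refine ModuleCat.hom_ext (LinearMap.toAddMonoidHom_injective (sec_ext P fun φ x => ?_))
    change secHom f W (secMap P g (inc P φ x)) = secMap Q g (secHom f V (inc P φ x))
    rw [secMap_inc P g φ _ rfl, secHom_inc, secHom_inc, secMap_inc Q g φ _ rfl, fres_app]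

/-- Extension by zero. -/
noncomputable def E (R : Cᵒᵖ ⥤ RingCat.{u}) (U : C) :
    PMU R U ⥤ PresheafOfModules.{u} R where
  obj := EObj
  map := EMap
  map_id P := by
    refine PresheafOfModules.hom_ext fun V => ModuleCat.hom_ext
      (LinearMap.toAddMonoidHom_injective (sec_ext P fun φ x => ?_))
    exact secHom_inc (𝟙 P) φ x
  map_comp {P Q S} f g := by
    refine PresheafOfModules.hom_ext fun V => ModuleCat.hom_ext
      (LinearMap.toAddMonoidHom_injective (sec_ext P fun φ x => ?_))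
    change secHom (f ≫ g) V (inc P φ x) = secHom g V (secHom f V (inc P φ x))
    rw [secHom_inc, secHom_inc, secHom_inc]
    rfl

/-- The unit: a section goes to the summand of the identity. -/
noncomputable def unitApp (P : PMU R U) : P ⟶ (restrP R U).obj (EObj P) where
  app X := ModuleCat.ofHom (X := P.obj X)
    (Y := ((restrP R U).obj (EObj P)).obj X) (inc P (V := op X.unop.left) X.unop.hom)
  naturality {X Y} h := by
    ext x
    exact (secMap_inc P (h.unop.left.op) X.unop.hom Y.unop.hom (Over.w h.unop) x).symm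

/-- The map out of the extension by zero attached to a map into the restriction. -/
noncomputable def descSec {P : PMU R U}
    {N : PresheafOfModules.{u} R}
    (f : P ⟶ (restrP R U).obj N) (V : Cᵒᵖ) : Sec P V →ₗ[R.obj V] N.obj V :=
  letI := Classical.decEq (V.unop ⟶ U)
  DirectSum.toModule _ _ _ fun φ => (f.app (op (Over.mk φ))).hom

lemma descSec_inc {P : PMU R U}
    {N : PresheafOfModules.{u} R}
    (f : P ⟶ (restrP R U).obj N) {V : Cᵒᵖ} (φ : V.unop ⟶ U) (x : Fib P φ) :
    descSec f V (inc P φ x) = f.app (op (Over.mk φ)) x := by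
  let _ := Classical.decEq (V.unop ⟶ U)
  exact DirectSum.toModule_lof _ φ x

/-- The map out of the extension by zero attached to a map into the restriction. -/
noncomputable def desc {P : PMU R U}
    {N : PresheafOfModules.{u} R}
    (f : P ⟶ (restrP R U).obj N) : EObj P ⟶ N where
  app V := ModuleCat.ofHom (descSec f V)
  naturality {V W} g := by
    refine ModuleCat.hom_ext (LinearMap.toAddMonoidHom_injective (sec_ext P fun φ x => ?_))
    change descSec f W (secMap P g (inc P φ x)) = N.map g (descSec f V (inc P φ x))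
    rw [secMap_inc P g φ _ rfl, descSec_inc, descSec_inc]
    exact PresheafOfModules.naturality_apply f
      (Over.homMk (U := Over.mk (g.unop ≫ φ)) (V := Over.mk φ) g.unop rfl).op x

/-- `E U` is left adjoint to restriction. -/
noncomputable def adj (R : Cᵒᵖ ⥤ RingCat.{u}) (U : C) : E R U ⊣ restrP R U :=
  Adjunction.mkOfHomEquiv
    { homEquiv := fun P N =>
        { toFun := fun g => unitApp P ≫ (restrP R U).map g
          invFun := desc
          left_inv := fun g => by
            refine PresheafOfModules.hom_ext fun V => ModuleCat.hom_ext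
              (LinearMap.toAddMonoidHom_injective (sec_ext P fun φ x => ?_))
            exact descSec_inc (unitApp P ≫ (restrP R U).map g) φ x
          right_inv := fun f => by
            ext X x
            exact descSec_inc f (V := op X.unop.left) X.unop.hom x }
      homEquiv_naturality_left_symm := fun {P P' N} f g => by
        refine PresheafOfModules.hom_ext fun V => ModuleCat.hom_ext
          (LinearMap.toAddMonoidHom_injective (sec_ext P fun φ x => ?_))
        change descSec (f ≫ g) V (inc P φ x) = descSec g V (secHom f V (inc P φ x))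
        rw [secHom_inc, descSec_inc, descSec_inc]
        rfl
      homEquiv_naturality_right := fun f g => by
        ext X x
        rfl }

lemma mono_map {P Q : PMU R U} (f : P ⟶ Q) [Mono f] : Mono ((E R U).map f) := by
  refine PresheafOfModules.mono_of_injective fun {V} => ?_
  have hinj (φ : V.unop ⟶ U) : Function.Injective (f.app (op (Over.mk φ))) :=
    PresheafOfModules.injective_of_mono f _
  intro a b h
  refine DFinsupp.ext fun φ => hinj φ ?_
  have : secHom f V a = secHom f V b := h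
  exact DFunLike.congr_fun this φ

section Comm

variable {R : Cᵒᵖ ⥤ CommRingCat.{u}}

/-- Presheaves of modules on `C/U` over a presheaf of commutative rings. -/
abbrev PMUc (R : Cᵒᵖ ⥤ CommRingCat.{u}) (U : C) :=
  PresheafOfModules.{u} (((Over.forget U).op ⋙ R) ⋙ forget₂ CommRingCat.{u} RingCat.{u})

/-- Restriction over a presheaf of commutative rings. -/
noncomputable abbrev restrc (R : Cᵒᵖ ⥤ CommRingCat.{u}) (U : C) :
    PresheafOfModules.{u} (R ⋙ forget₂ CommRingCat.{u} RingCat.{u}) ⥤ PMUc R U :=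
  PresheafOfModules.pushforward₀OfCommRingCat (Over.forget U) R

noncomputable instance fibModuleComm (P : PMUc R U) {V : Cᵒᵖ} (φ : V.unop ⟶ U) :
    Module (R.obj V) (Fib (R := R ⋙ forget₂ CommRingCat.{u} RingCat.{u}) P φ) :=
  (P.obj (op (Over.mk φ))).isModule

/-- Fibres over a presheaf of commutative rings. -/
abbrev FibC (P : PMUc R U) {V : Cᵒᵖ} (φ : V.unop ⟶ U) : Type u :=
  Fib (R := R ⋙ forget₂ CommRingCat.{u} RingCat.{u}) P φ

/-- Sections over a presheaf of commutative rings. -/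
abbrev SecC (P : PMUc R U) (V : Cᵒᵖ) : Type u :=
  Sec (R := R ⋙ forget₂ CommRingCat.{u} RingCat.{u}) P V

noncomputable instance secModuleComm (P : PMUc R U) (V : Cᵒᵖ) : Module (R.obj V) (SecC P V) :=
  inferInstanceAs (Module ((R ⋙ forget₂ CommRingCat.{u} RingCat.{u}).obj V)
    (Sec (R := R ⋙ forget₂ CommRingCat.{u} RingCat.{u}) P V))

/-- Summand inclusion. -/
noncomputable abbrev incC (P : PMUc R U) {V : Cᵒᵖ} (φ : V.unop ⟶ U) :
    FibC P φ →ₗ[R.obj V] SecC P V :=
  inc (R := R ⋙ forget₂ CommRingCat.{u} RingCat.{u}) P φ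

/-- Restriction on sections. -/
noncomputable abbrev secMapC (P : PMUc R U) {V W : Cᵒᵖ} (g : V ⟶ W) : SecC P V →+ SecC P W :=
  secMap (R := R ⋙ forget₂ CommRingCat.{u} RingCat.{u}) P g

/-- Extension of a map on sections. -/
noncomputable abbrev secHomC {P Q : PMUc R U} (f : P ⟶ Q) (V : Cᵒᵖ) :
    SecC P V →ₗ[R.obj V] SecC Q V :=
  secHom (R := R ⋙ forget₂ CommRingCat.{u} RingCat.{u}) f V

/-- Restriction between fibres. -/
noncomputable abbrev fresC (P : PMUc R U) {V W : Cᵒᵖ} (g : V ⟶ W) (ψ : V.unop ⟶ U)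
    (φ : W.unop ⟶ U) (h : g.unop ≫ ψ = φ) : FibC P ψ →+ FibC P φ :=
  fres (R := R ⋙ forget₂ CommRingCat.{u} RingCat.{u}) P g ψ φ h

lemma sec_extC (P : PMUc R U) {V : Cᵒᵖ} {A : Type*} [AddCommGroup A] {f g : SecC P V →+ A}
    (h : ∀ (φ : V.unop ⟶ U) (x : FibC P φ), f (incC P φ x) = g (incC P φ x)) : f = g :=
  sec_ext (R := R ⋙ forget₂ CommRingCat.{u} RingCat.{u}) P h

lemma secMap_incC (P : PMUc R U) {V W : Cᵒᵖ} (g : V ⟶ W) (ψ : V.unop ⟶ U) (φ : W.unop ⟶ U)
    (h : g.unop ≫ ψ = φ) (x : FibC P ψ) :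
    secMapC P g (incC P ψ x) = incC P φ (fresC P g ψ φ h x) :=
  secMap_inc (R := R ⋙ forget₂ CommRingCat.{u} RingCat.{u}) P g ψ φ h x

lemma secHom_incC {P Q : PMUc R U} (f : P ⟶ Q) {V : Cᵒᵖ} (φ : V.unop ⟶ U) (x : FibC P φ) :
    secHomC f V (incC P φ x) = incC Q φ (f.app _ x) :=
  secHom_inc (R := R ⋙ forget₂ CommRingCat.{u} RingCat.{u}) f φ x

/-- Extension by zero over a presheaf of commutative rings. -/
noncomputable abbrev Ec (R : Cᵒᵖ ⥤ CommRingCat.{u}) (U : C) :
    PMUc R U ⥤ PresheafOfModules.{u} (R ⋙ forget₂ CommRingCat.{u} RingCat.{u}) :=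
  E (R ⋙ forget₂ CommRingCat.{u} RingCat.{u}) U

/-- A pure tensor in a fibre. -/
noncomputable def ftm (P : PMUc R U)
    (N : PresheafOfModules.{u} (R ⋙ forget₂ CommRingCat.{u} RingCat.{u})) {V : Cᵒᵖ}
    (φ : V.unop ⟶ U) (x : FibC P φ) (n : N.obj V) : FibC (P ⊗ (restrc R U).obj N) φ :=
  x ⊗ₜ[R.obj V] n

lemma fres_ftm (P : PMUc R U)
    (N : PresheafOfModules.{u} (R ⋙ forget₂ CommRingCat.{u} RingCat.{u})) {V W : Cᵒᵖ} (g : V ⟶ W)
    (ψ : V.unop ⟶ U) (φ : W.unop ⟶ U) (h : g.unop ≫ ψ = φ) (x : FibC P ψ) (n : N.obj V) :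
    fresC (P ⊗ (restrc R U).obj N) g ψ φ h (ftm P N ψ x n) =
      ftm P N φ (fresC P g ψ φ h x) (N.map g n) := rfl

/-- The projection formula, sectionwise. -/
noncomputable def projEquiv (P : PMUc R U)
    (N : PresheafOfModules.{u} (R ⋙ forget₂ CommRingCat.{u} RingCat.{u})) (V : Cᵒᵖ) :
    SecC (P ⊗ (restrc R U).obj N) V ≃ₗ[R.obj V] TensorProduct (R.obj V) (SecC P V) (N.obj V) :=
  letI := Classical.decEq (V.unop ⟶ U)
  (TensorProduct.directSumLeft (R.obj V) (R.obj V) (fun φ : V.unop ⟶ U => FibC P φ) (N.obj V)).symm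

lemma projEquiv_inc (P : PMUc R U)
    (N : PresheafOfModules.{u} (R ⋙ forget₂ CommRingCat.{u} RingCat.{u})) {V : Cᵒᵖ}
    (φ : V.unop ⟶ U) (x : FibC P φ) (n : N.obj V) :
    projEquiv P N V (incC (P ⊗ (restrc R U).obj N) φ (ftm P N φ x n)) =
      incC P φ x ⊗ₜ[R.obj V] n := by
  let _ := Classical.decEq (V.unop ⟶ U)
  exact TensorProduct.directSumLeft_symm_lof_tmul (R.obj V) (R.obj V) φ x n

/-- The projection formula. -/
noncomputable def projIso (P : PMUc R U)
    (N : PresheafOfModules.{u} (R ⋙ forget₂ CommRingCat.{u} RingCat.{u})) :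
    (Ec R U).obj (P ⊗ (restrc R U).obj N) ≅ (Ec R U).obj P ⊗ N :=
  PresheafOfModules.isoMk (fun V => (projEquiv P N V).toModuleIso) (fun V W g => by
    refine ModuleCat.hom_ext (LinearMap.toAddMonoidHom_injective (sec_extC _ fun φ z => ?_))
    change projEquiv P N W (secMapC _ g (incC _ φ z)) =
      ((Ec R U).obj P ⊗ N).map g (projEquiv P N V (incC _ φ z))
    obtain ⟨k, xs, ns, hz⟩ := TensorProduct.exists_sum_tmul_eq
      (show TensorProduct (R.obj V) (FibC P φ) (N.obj V) from z)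
    let L₁ : FibC (P ⊗ (restrc R U).obj N) φ →+ TensorProduct (R.obj W) (SecC P W) (N.obj W) :=
      (projEquiv P N W).toAddMonoidHom.comp
        ((secMapC _ g).comp (incC (P ⊗ (restrc R U).obj N) φ).toAddMonoidHom)
    let L₂ : FibC (P ⊗ (restrc R U).obj N) φ →+ TensorProduct (R.obj W) (SecC P W) (N.obj W) :=
      (((Ec R U).obj P ⊗ N).map g).hom.toAddMonoidHom.comp
        ((projEquiv P N V).toAddMonoidHom.comp
          (incC (P ⊗ (restrc R U).obj N) φ).toAddMonoidHom)
    change L₁ z = L₂ z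
    have hz' : z = ∑ i, ftm P N φ (xs i) (ns i) := hz
    rw [hz']
    refine (map_sum L₁ _ _).trans ((Finset.sum_congr rfl fun i _ => ?_).trans (map_sum L₂ _ _).symm)
    change projEquiv P N W (secMapC _ g (incC _ φ (ftm P N φ (xs i) (ns i)))) =
      ((Ec R U).obj P ⊗ N).map g (projEquiv P N V (incC _ φ (ftm P N φ (xs i) (ns i))))
    rw [secMap_incC _ g φ _ rfl, fres_ftm, projEquiv_inc, projEquiv_inc,
      ← secMap_incC P g φ _ rfl]
    rfl)


/-- The projection formula, naturally in the module on `C/U`. -/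
noncomputable def projNatIsoRight
    (N : PresheafOfModules.{u} (R ⋙ forget₂ CommRingCat.{u} RingCat.{u})) :
    MonoidalCategory.tensorRight ((restrc R U).obj N) ⋙ Ec R U ≅
      Ec R U ⋙ MonoidalCategory.tensorRight N :=
  NatIso.ofComponents (fun P => projIso P N) (fun {P Q} f => by
    refine PresheafOfModules.hom_ext fun V => ModuleCat.hom_ext
      (LinearMap.toAddMonoidHom_injective (sec_extC _ fun φ z => ?_))
    obtain ⟨k, xs, ns, hz⟩ := TensorProduct.exists_sum_tmul_eq
      (show TensorProduct (R.obj V) (FibC P φ)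
        (N.obj V) from z)
    let L₁ : FibC (P ⊗ (restrc R U).obj N) φ →+
        TensorProduct (R.obj V) (SecC Q V) (N.obj V) :=
      (projEquiv Q N V).toAddMonoidHom.comp
        ((secHomC (f ▷ (restrc R U).obj N) V).toAddMonoidHom.comp (incC _ φ).toAddMonoidHom)
    let L₂ : FibC (P ⊗ (restrc R U).obj N) φ →+
        TensorProduct (R.obj V) (SecC Q V) (N.obj V) :=
      (((Ec R U).map f ▷ N).app V).hom.toAddMonoidHom.comp
        ((projEquiv P N V).toAddMonoidHom.comp (incC _ φ).toAddMonoidHom)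
    change L₁ z = L₂ z
    have hz' : z = ∑ i, ftm P N φ (xs i) (ns i) := hz
    rw [hz']
    refine (map_sum L₁ _ _).trans ((Finset.sum_congr rfl fun i _ => ?_).trans (map_sum L₂ _ _).symm)
    change projEquiv Q N V (secHomC (f ▷ (restrc R U).obj N) V (incC _ φ (ftm P N φ (xs i) (ns i)))) =
      ((Ec R U).map f ▷ N).app V (projEquiv P N V (incC _ φ (ftm P N φ (xs i) (ns i))))
    rw [secHom_incC, projEquiv_inc]
    refine (projEquiv_inc Q N φ _ (ns i)).trans ?_
    rw [← secHom_incC f φ (xs i)]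
    rfl)

/-- The projection formula, naturally in the module on `C`. -/
noncomputable def projNatIsoLeft (P : PMUc R U) :
    restrc R U ⋙ MonoidalCategory.tensorLeft P ⋙ Ec R U ≅
      MonoidalCategory.tensorLeft ((Ec R U).obj P) :=
  NatIso.ofComponents (fun N => projIso P N) (fun {N N'} g => by
    refine PresheafOfModules.hom_ext fun V => ModuleCat.hom_ext
      (LinearMap.toAddMonoidHom_injective (sec_extC _ fun φ z => ?_))
    obtain ⟨k, xs, ns, hz⟩ := TensorProduct.exists_sum_tmul_eq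
      (show TensorProduct (R.obj V) (FibC P φ)
        (N.obj V) from z)
    let L₁ : FibC (P ⊗ (restrc R U).obj N) φ →+
        TensorProduct (R.obj V) (SecC P V) (N'.obj V) :=
      (projEquiv P N' V).toAddMonoidHom.comp
        ((secHomC (P ◁ (restrc R U).map g) V).toAddMonoidHom.comp (incC _ φ).toAddMonoidHom)
    let L₂ : FibC (P ⊗ (restrc R U).obj N) φ →+
        TensorProduct (R.obj V) (SecC P V) (N'.obj V) :=
      (((Ec R U).obj P ◁ g).app V).hom.toAddMonoidHom.comp
        ((projEquiv P N V).toAddMonoidHom.comp (incC _ φ).toAddMonoidHom)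
    change L₁ z = L₂ z
    have hz' : z = ∑ i, ftm P N φ (xs i) (ns i) := hz
    rw [hz']
    refine (map_sum L₁ _ _).trans ((Finset.sum_congr rfl fun i _ => ?_).trans (map_sum L₂ _ _).symm)
    change projEquiv P N' V (secHomC (P ◁ (restrc R U).map g) V (incC _ φ (ftm P N φ (xs i) (ns i)))) =
      ((Ec R U).obj P ◁ g).app V (projEquiv P N V (incC _ φ (ftm P N φ (xs i) (ns i))))
    rw [secHom_incC, projEquiv_inc]
    exact projEquiv_inc P N' φ (xs i) (g.app V (ns i)))

end Comm

end Groth.Agent.Lib.ExtZero.Presheaf
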